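import Cfsg.Agent.Lib.Helper32.AschU.Defs
import Cfsg.Agent.Lib.Helper77.Asch.CL2

set_option autoImplicit false

namespace Cfsg.Agent.Lib.Helper32.AschU

open Cfsg Cfsg.Geo Cfsg.Agent.Lib.Helper77.Asch
open scoped MatrixGroups Matrix

variable {n : ℕ} {F : Type*} [Field F]

/-- CL2S (= ASCH CL2 keeping the weights). -/
theorem cliff_decomp_strong (hn : n.Prime) (H N : Subgroup (GL (Fin n) F)) (hN : N ≤ H) (hnorm : NormBy H N)
    (hH : ActsIrreducibly (matrixSet H)) (v : Fin n → F) (hv : v ≠ 0)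
    (hev : ∀ x ∈ N, ∃ c : F, (x : Matrix (Fin n) (Fin n) F) *ᵥ v = c • v) :
    N ≤ scalars (Fin n) F ∨
      ∃ (D : Fin n → Submodule F (Fin n → F)) (χ : Fin n → GL (Fin n) F → F), IsMDecomposition 1 D ∧
        H ≤ decompositionStabilizer D ∧
        (∀ i, ∀ x ∈ N, ∀ u ∈ D i, (x : Matrix (Fin n) (Fin n) F) *ᵥ u = χ i x • u) ∧
        (∀ i j, i ≠ j → ∃ x ∈ N, χ i x ≠ χ j x) := by
  classical
  choose! c hc using hev
  let χ₀ : N → F := fun x => c x
  have hvmem : v ∈ cl2V N χ₀ := fun x => hc x x.2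
  have h0 : cl2V N χ₀ ≠ ⊥ := by
    intro h
    rw [h] at hvmem
    exact hv ((Submodule.mem_bot F).mp hvmem)
  obtain ⟨s, hs1, hs2, hs3⟩ := cl2_collect hn.pos H N hnorm hH χ₀ h0
  rcases (Nat.dvd_prime hn).mp ⟨_, hs3.symm⟩ with h1 | h1
  · left
    obtain ⟨χ, rfl⟩ := Finset.card_eq_one.mp h1
    have htop : cl2V N χ = ⊤ := by simpa using hs2
    intro x hx
    rw [mem_scalars_iff]
    have hall : ∀ u, cl1T x u = χ ⟨x, hx⟩ • u := by
      intro u
      have hu : u ∈ cl2V N χ := by rw [htop]; trivial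
      exact hu ⟨x, hx⟩
    have hne : χ ⟨x, hx⟩ ≠ 0 := by
      intro h0'
      apply hv
      apply cl1T_injective x
      rw [hall, hall, h0']
      simp
    refine ⟨Units.mk0 _ hne, ?_⟩
    apply Matrix.toLin'.injective
    apply LinearMap.ext
    intro u
    have h2 : Matrix.toLin' (x : Matrix (Fin n) (Fin n) F) u = cl1T x u := rfl
    rw [h2, hall]
    simp [Matrix.toLin'_apply, Matrix.smul_mulVec]
  · right
    have hm : Module.finrank F (cl2V N χ₀) = 1 := by
      rw [h1] at hs3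
      exact Nat.eq_of_mul_eq_mul_left hn.pos (by rw [hs3, mul_one])
    let e : Fin n ≃ s := (Finset.equivFinOfCardEq h1).symm
    refine ⟨fun i => cl2V N (e i : N → F),
      fun i x => if hx : x ∈ N then (e i : N → F) ⟨x, hx⟩ else 0, ?_, ?_, ?_, ?_⟩
    · refine ⟨hn.two_le, one_pos, ?_, ?_, ?_⟩
      · intro i
        rw [hs1 _ (e i).2, hm]
      · exact (cl2_indep N).comp (f := fun i => (e i : N → F))
          (fun i j hij => e.injective (Subtype.ext hij))
      · rw [eq_top_iff, ← hs2]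
        refine iSup₂_le fun χ hχ => ?_
        refine le_iSup_of_le (e.symm ⟨χ, hχ⟩) ?_
        simp
    · intro g hg
      have hmem : ∀ χ : s, (χ : N → F) ∘ cl2c H N hnorm ⟨g, hg⟩ ∈ s := by
        intro χ
        by_contra hnot
        have hdisj : Disjoint (cl2V N ((χ : N → F) ∘ cl2c H N hnorm ⟨g, hg⟩))
            (⨆ χ ∈ (s : Set (N → F)), cl2V N χ) :=
          (cl2_indep N).disjoint_biSup (by simpa using hnot)
        have h3 : (⨆ χ ∈ (s : Set (N → F)), cl2V N χ) = ⊤ := by simpa using hs2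
        rw [h3, disjoint_top] at hdisj
        have h4 := cl2_finrank H N hnorm ⟨g, hg⟩ (χ : N → F)
        rw [hdisj, finrank_bot, hs1 _ χ.2, hm] at h4
        exact absurd h4 (by norm_num)
      let φ : s → s := fun χ => ⟨(χ : N → F) ∘ cl2c H N hnorm ⟨g, hg⟩, hmem χ⟩
      have hφinj : Function.Injective φ := by
        intro χ χ' h
        apply Subtype.ext
        have h5 : (χ : N → F) ∘ cl2c H N hnorm ⟨g, hg⟩ = (χ' : N → F) ∘ cl2c H N hnorm ⟨g, hg⟩ :=
          congrArg Subtype.val h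
        rw [← cl2_comp_inv H N hnorm ⟨g, hg⟩ (χ : N → F), h5, cl2_comp_inv]
      have hφbij : Function.Bijective φ := Finite.injective_iff_bijective.mp hφinj
      refine ⟨(e.trans (Equiv.ofBijective φ hφbij)).trans e.symm, ?_⟩
      intro i
      have h6 := cl2_map_eq H N hnorm ⟨g, hg⟩ (e i : N → F)
      simp only [Equiv.trans_apply, Equiv.apply_symm_apply, Equiv.ofBijective_apply]
      exact h6
    · intro i x hx u hu
      simp only [dif_pos hx]
      exact hu ⟨x, hx⟩
    · intro i j hij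
      have hne : (e i : N → F) ≠ (e j : N → F) := fun h => hij (e.injective (Subtype.ext h))
      obtain ⟨x, hx⟩ := Function.ne_iff.mp hne
      refine ⟨x, x.2, ?_⟩
      simp only [dif_pos x.2]
      exact hx

end Cfsg.Agent.Lib.Helper32.AschU
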