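import Cfsg.Agent.Lib.Helper32.AschU.Defs
import Cfsg.Agent.Lib.Helper17.SUNondegB
import Cfsg.Agent.Lib.Helper97.HermGlue

set_option autoImplicit false

namespace Cfsg.Agent.Lib.Helper32.AschU

open Cfsg Cfsg.Geo Cfsg.Agent.Lib.Helper77.Asch
open scoped MatrixGroups Matrix

variable {n : ℕ} {F : Type*} [Field F]

/-- URED. -/
theorem ured [Fintype F] (q : ℕ) (hF : Fintype.card F = q ^ 2) (hn : Odd n) (H : Subgroup (GL (Fin n) F))
    (hH : H ≤ GU n F q) (W₀ : Submodule F (Fin n → F)) (h0 : W₀ ≠ ⊥) (h1 : W₀ ≠ ⊤) (hW : H ≤ subspaceStabilizer W₀) :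
    (∃ W : Submodule F (Fin n → F), W ≠ ⊥ ∧ IsTotallySingularFor (hermForm n F q) W ∧ H ≤ subspaceStabilizer W) ∨
    (∃ W : Submodule F (Fin n → F), W ≠ ⊥ ∧ IsNondegenerateOn (hermForm n F q) W ∧
      2 * Module.finrank F W < n ∧ H ≤ subspaceStabilizer W) := by
  have h := Cfsg.Agent.Lib.Helper97.hermUF hF n
  have hpres : ∀ g ∈ H, ∀ u v : Fin n → F,
      hermForm n F q ((g : Matrix (Fin n) (Fin n) F) *ᵥ u) ((g : Matrix (Fin n) (Fin n) F) *ᵥ v) =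
        hermForm n F q u v := fun g hg u v => hH hg u v
  have hstab : ∀ g ∈ H, ∀ v : Fin n → F, v ∈ W₀ ↔ (g : Matrix (Fin n) (Fin n) F) *ᵥ v ∈ W₀ :=
    fun g hg v => hW hg v
  have hgg : ∀ (g : GL (Fin n) F) (w : Fin n → F),
      (g : Matrix (Fin n) (Fin n) F) *ᵥ (((g⁻¹ : GL (Fin n) F) : Matrix (Fin n) (Fin n) F) *ᵥ w) = w := by
    intro g w
    rw [Matrix.mulVec_mulVec, ← Units.val_mul, mul_inv_cancel, Units.val_one, Matrix.one_mulVec]
  have hinv : H ≤ subspaceStabilizer (Cfsg.Agent.Lib.Helper17.SUNondeg.perp h W₀) := by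
    intro g hg v
    show v ∈ Cfsg.Agent.Lib.Helper17.SUNondeg.perp h W₀ ↔
      (g : Matrix (Fin n) (Fin n) F) *ᵥ v ∈ Cfsg.Agent.Lib.Helper17.SUNondeg.perp h W₀
    rw [Cfsg.Agent.Lib.Helper17.SUNondeg.mem_perp, Cfsg.Agent.Lib.Helper17.SUNondeg.mem_perp]
    constructor
    · intro hv w hw
      have hw' : ((g⁻¹ : GL (Fin n) F) : Matrix (Fin n) (Fin n) F) *ᵥ w ∈ W₀ :=
        (hstab g⁻¹ (H.inv_mem hg) w).1 hw
      rw [← hgg g w, hpres g hg]
      exact hv _ hw'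
    · intro hv w hw
      rw [← hpres g hg]
      exact hv _ ((hstab g hg w).1 hw)
  have hnd : ∀ W : Submodule F (Fin n → F), Cfsg.Agent.Lib.Helper17.SUNondeg.NDOn (hermForm n F q) W →
      IsNondegenerateOn (hermForm n F q) W := by
    intro W hWn w hw hw0
    obtain ⟨x, hx, hxw⟩ := hWn w hw hw0
    exact ⟨⟨x, hx, hxw⟩, ⟨x, hx, Cfsg.Agent.Lib.Helper97.ne_zero_comm' h hxw⟩⟩
  by_cases hU : W₀ ⊓ Cfsg.Agent.Lib.Helper17.SUNondeg.perp h W₀ = ⊥
  · right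
    have hND : Cfsg.Agent.Lib.Helper17.SUNondeg.NDOn (hermForm n F q) W₀ := by
      intro w hw hw0
      by_contra hcon
      push Not at hcon
      apply hw0
      have : w ∈ W₀ ⊓ Cfsg.Agent.Lib.Helper17.SUNondeg.perp h W₀ :=
        ⟨hw, fun x hx => Cfsg.Agent.Lib.Helper97.eq_zero_comm' h (hcon x hx)⟩
      rw [hU] at this
      exact (Submodule.mem_bot F).1 this
    have hc := Cfsg.Agent.Lib.Helper17.SUNondeg.isCompl_perp h hND
    have hNDp := Cfsg.Agent.Lib.Helper17.SUNondeg.ndOn_perp h hND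
    have hfr := Cfsg.Agent.Lib.Helper17.SUNondeg.finrank_perp h hND
    rw [Module.finrank_fintype_fun_eq_card, Fintype.card_fin] at hfr
    by_cases h2 : 2 * Module.finrank F W₀ < n
    · exact ⟨W₀, h0, hnd _ hND, h2, hW⟩
    · refine ⟨_, ?_, hnd _ hNDp, ?_, hinv⟩
      · intro hb
        rw [hb] at hc
        exact h1 (by simpa using hc.sup_eq_top)
      · obtain ⟨k, hk⟩ := hn
        omega
  · left
    refine ⟨_, hU, ?_, ?_⟩
    · intro u hu v hv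
      exact hu.2 v hv.1
    · intro g hg v
      have e1 := hstab g hg v
      have e2 : v ∈ Cfsg.Agent.Lib.Helper17.SUNondeg.perp h W₀ ↔
        (g : Matrix (Fin n) (Fin n) F) *ᵥ v ∈ Cfsg.Agent.Lib.Helper17.SUNondeg.perp h W₀ := hinv hg v
      show v ∈ W₀ ⊓ Cfsg.Agent.Lib.Helper17.SUNondeg.perp h W₀ ↔
        (g : Matrix (Fin n) (Fin n) F) *ᵥ v ∈ W₀ ⊓ Cfsg.Agent.Lib.Helper17.SUNondeg.perp h W₀
      rw [Submodule.mem_inf, Submodule.mem_inf, e1, e2]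

end Cfsg.Agent.Lib.Helper32.AschU
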